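/-
Data on a configuration of nine transpositions of the presented Fi22 on 3510 points, found by a computer search:
their words and points, eight vectors with the same pattern in dimension eight over two elements, a tree on the
vectors, the classes of points, words for conjugates, and elements of order five.
-/
import Cfsg.Agent.Lib.Spor.TC.Trie

namespace CfsgLib.Spor.Fi22Eight

open CfsgLib.Spor.TC

/-- The words of the nine transpositions. -/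
def nodeWords : List (List ℕ) := [
  [1],
  [6],
  [0],
  [5, 4, 3, 7, 8, 2, 3, 7, 4, 3, 2, 1, 2, 3, 4, 7, 3, 2, 8, 7, 3, 4, 5],
  [4],
  [3],
  [7],
  [8],
  [5, 2, 3, 4, 1, 2, 3, 7, 8, 5, 3, 4, 2, 3, 7, 6, 5, 4, 3, 2, 1, 0, 1, 2, 3, 4, 5, 6, 7, 3, 2, 4, 3, 5, 8, 7, 3, 2, 1, 4, 3, 2, 5]]

/-- Their points. -/
def nodePts : List ℕ := [14, 173, 0, 209, 59, 10, 34, 86, 1308]

/-- The eight vectors, packed. -/
def rootCodes : List ℕ := [17, 19, 35, 100, 27, 136, 31, 68]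

/-- Distance times eight plus the letter towards the first vector. -/
def vecTree : Tbl :=
  (.bin (.bin (.bin (.tip 0x5500550033003200e70073003300000000000000000000000000000000000000) (.tip 0x37004700a300b14e004e003d003d003f463f46ab44a9440000000000000000)) (.bin (.tip 0x2400245f005f0000130021de007f002c861cd5000000001b66196600000000) (.tip 0xc3009400002e003e002d002d5700570000000000364f364f358d25cc00000000))) (.bin (.bin (.tip 0x4d6700002b7600007a7700000a7600556f0000337e0000806f0000106e0000) (.tip 0x4f000046ba00004400465f0000357d0000003e4700003cb24e6700003d850000)) (.bin (.tip 0x2c00009600575d002a00006600876c0000008e345f65000000005e228f640000) (.tip 0x9c51004600004f3500009d004f5600a44b00000000473e0000953d575e0000))))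

/-- The class of each point. -/
def clsTbl : Tbl :=
  (.bin (.bin (.bin (.bin (.bin (.bin (.bin (.tip 0xffffffffcfc0fff0) (.tip 0xd555dff557fff555)) (.bin (.tip 0xffffffffffffffff) (.tip 0xfffffffff3ffffff))) (.bin (.bin (.tip 0xfffffffff3fcffff) (.tip 0xfffffdd7fd57f7d5)) (.bin (.tip 0xffffffffffffffff) (.tip 0x0)))) (.bin (.bin (.bin (.tip 0xfffffffffc0f03ff) (.tip 0xffffeeabaafeafea)) (.bin (.tip 0xfdffffffffffffff) (.tip 0xffffffffffffffff))) (.bin (.bin (.tip 0xffffffffffffffff) (.tip 0xffffefffebaffefa)) (.bin (.tip 0xffabfeffffffabff) (.tip 0x0))))) (.bin (.bin (.bin (.bin (.tip 0xff3fffffffff3f3f) (.tip 0xffffffffffff0c3f)) (.bin (.tip 0xffffcff3cfffffff) (.tip 0xefbbffafffffffff))) (.bin (.bin (.tip 0xfffffcffffffffff) (.tip 0xfffffffffffc303f)) (.bin (.tip 0x5555f57fdfdfffff) (.tip 0x0)))) (.bin (.bin (.bin (.tip 0xffcffffffff3fffc)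 (.tip 0xfffffffffffff003)) (.bin (.tip 0xfffffeffffffffff) (.tip 0xffffffffffffffff))) (.bin (.bin (.tip 0xfffffff0ffffffff) (.tip 0xfffffffffffffff3)) (.bin (.tip 0xffccffffffffffff) (.tip 0x0)))))) (.bin (.bin (.bin (.bin (.bin (.tip 0xffffcfffffffffff) (.tip 0xffffffffffd5757f)) (.bin (.tip 0xfffffffffffff3ff) (.tip 0xf33fffffffffffff))) (.bin (.bin (.tip 0xffffffccfffffff3) (.tip 0xffffff3fffffffff)) (.bin (.tip 0xff57ff7ffffdffff) (.tip 0x0)))) (.bin (.bin (.bin (.tip 0xffffffc0fcccffff) (.tip 0xffffffffffffffff)) (.bin (.tip 0xfffffffffffff3ff) (.tip 0xffffffffffff3fff))) (.bin (.bin (.tip 0xfffffffff3fcfcff) (.tip 0xfffffffff3ffffff)) (.bin (.tip 0xabffffffffffffff) (.tip 0x0))))) (.bin (.bin (.bin (.bin (.tip 0xffff33c3fffffc3f) (.tip 0xffaaaebfffeaafff)) (.bin (.tip 0xffffffffffffffff) (.tip 0xfffffffff3ffcfff))) (.bin (.bin (.tip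 0xfffffff3ffffffff) (.tip 0xabaeabfffeeabfff)) (.bin (.tip 0xfffffffffffffcff) (.tip 0x0)))) (.bin (.bin (.bin (.tip 0xffffff33ffff3fff) (.tip 0xff555d5ffff557ff)) (.bin (.tip 0xaffbfffffbffffff) (.tip 0x0))) (.bin (.bin (.tip 0xffffffffffffffff) (.tip 0xf7f7ff5f7f77ff7d)) (.bin (.tip 0x77ffff57ffffffff) (.tip 0x0))))))) (.bin (.bin (.bin (.bin (.bin (.bin (.tip 0xfc3fffffffffff00) (.tip 0xffffffffffffffff)) (.bin (.tip 0xffffffffffffffff) (.tip 0xfffffffcffffffff))) (.bin (.bin (.tip 0xfcffffffffffffff) (.tip 0xffffffff7fffffff)) (.bin (.tip 0xff7fffffffffffff) (.tip 0x0)))) (.bin (.bin (.bin (.tip 0xffff333ffffffcc3) (.tip 0xfffaefffffffffff)) (.bin (.tip 0xffffffffffffffff) (.tip 0xffffffffffffffff))) (.bin (.bin (.tip 0xffffffffffffffff) (.tip 0xffffffffffff3fff)) (.bin (.tip 0xfffffeaabffaafff) (.tip 0x0))))) (.bin (.bin (.bin (.bin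 (.tip 0xffff3ffff3cf3fff) (.tip 0xffffffffffffffff)) (.bin (.tip 0xffffffffffffffff) (.tip 0xfffffffffffffffb))) (.bin (.bin (.tip 0xffffff3fffffffff) (.tip 0xffffffffffffffff)) (.bin (.tip 0xffffffffffffffff) (.tip 0x0)))) (.bin (.bin (.bin (.tip 0xfffff3ffffcfff3f) (.tip 0xffffffffffffffff)) (.bin (.tip 0xffffffffffffffff) (.tip 0xfffffffffff))) (.bin (.bin (.tip 0xffffffffffffffff) (.tip 0x7fffffffffffffff)) (.bin (.tip 0xffffffffffffffff) (.tip 0x0)))))) (.bin (.bin (.bin (.bin (.bin (.tip 0xfff3ffffffffffff) (.tip 0xffffffffffffffff)) (.bin (.tip 0xffffffffffffffff) (.tip 0xffffffffffffffff))) (.bin (.bin (.tip 0xffffffffffcfffff) (.tip 0xffffffffffffffff)) (.bin (.tip 0xffffffffffffffff) (.tip 0x0)))) (.bin (.bin (.bin (.tip 0xffffffccff3fffff) (.tip 0xffffffffffffffff)) (.bin (.tip 0xffffffffffffffff) (.tip 0xffffffffffffffff))) (.bin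 (.bin (.tip 0xffffffffffffffff) (.tip 0xfffffffffffffff)) (.bin (.tip 0xfffffffffffaaeaa) (.tip 0x0))))) (.bin (.bin (.bin (.bin (.tip 0xffffc0ffffff0fff) (.tip 0xaabaffffffaaabaf)) (.bin (.tip 0xffffffffffffffff) (.tip 0xffffffffffffffff))) (.bin (.bin (.tip 0xffffffffff03ffff) (.tip 0xfabffffebfefefff)) (.bin (.tip 0xbffffeffffffffff) (.tip 0x0)))) (.bin (.bin (.bin (.tip 0xfffffffffcff3fff) (.tip 0x7555ffffff7575d7)) (.bin (.tip 0xfffffffffffffffa) (.tip 0x0))) (.bin (.bin (.tip 0xfffffffffcff3fcf) (.tip 0xddffffdf57ffdfff)) (.bin (.tip 0xfd5ffffff555fff5) (.tip 0x0))))))))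

/-- Even words fixing only the third point. -/
def loneZero : List (List ℕ) := [
  [1, 2],
  [1, 4],
  [1, 5],
  [1, 6],
  [1, 7],
  [3, 2, 4, 5, 0, 5, 4, 2, 3, 1]]

/-- Even words fixing only the last point. -/
def loneX : List (List ℕ) := [
  [1, 7, 4, 2],
  [0, 7, 6, 2],
  [0, 7, 5, 3]]

/-- The conjugates of the pairs by the last transposition. -/
def conjWords : List (List ℕ) := [
  [7, 3, 2, 3, 3, 4, 5, 6, 1, 3, 4, 5, 2, 3, 4, 1, 3, 2, 0, 2, 3, 1, 4, 3, 2, 5, 4, 3, 1, 6, 5, 4, 3, 7, 6, 5, 6, 7, 5, 4, 3, 2, 3, 4, 5, 6, 4, 5, 2, 3, 4, 1, 3, 2, 0, 2, 3, 1, 4, 3, 2, 5, 4, 6, 0, 2, 3, 1, 3, 2],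
  [7, 3, 2, 3, 3, 4, 5, 6, 1, 3, 4, 5, 2, 3, 4, 1, 3, 2, 0, 2, 3, 1, 4, 3, 2, 5, 4, 3, 1, 6, 5, 4, 3, 7, 6, 5, 6, 7, 5, 4, 3, 2, 3, 4, 5, 6, 4, 5, 2, 3, 4, 1, 3, 2, 0, 2, 3, 1, 4, 3, 2, 5, 4, 6, 0, 2, 3, 1, 3, 2, 3, 4, 5, 3, 4, 2, 3, 1, 3, 2, 4, 3, 5, 4, 6, 5, 6, 1, 7, 0, 2, 3, 4, 5, 6, 1, 3, 4, 5, 2, 3, 4, 1, 3, 2, 0, 2, 3, 1, 4, 3, 2, 5, 4, 3, 1, 6, 5, 4, 3, 2, 0, 7, 3, 2, 3, 7, 6, 5, 4, 5, 6, 7, 6],
  [0, 6, 7, 6, 5, 6, 2, 0, 2, 1, 3, 4, 5, 2, 3, 4, 1, 3, 2, 0, 2, 3, 1, 4, 3, 2, 5, 4, 3, 1, 3, 2, 3, 4, 5, 6, 7, 3, 4, 5, 6, 1, 3, 4, 5, 2, 3, 4, 1, 3, 2, 0, 2, 3, 1, 4, 3, 2, 5, 4, 3, 1, 6, 5, 4, 3, 7, 6, 5, 4],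
  [6, 5, 4, 3, 1, 3, 4, 5, 6, 7, 5, 4, 3, 4, 5, 6, 3, 4, 5, 2, 3, 4, 1, 3, 2, 0, 2, 3, 1, 4, 3, 2, 5, 4, 3, 6, 1, 3, 2, 0, 2, 3, 1, 4, 2, 3, 1, 3, 2, 7, 5, 6, 4, 5, 2, 3, 4, 1, 3, 2, 0, 2, 3, 1, 4, 3, 2, 5, 4, 6, 5, 7],
  [6, 7, 6, 5, 6, 7, 3, 4, 5, 6, 1, 3, 4, 5, 2, 3, 4, 1, 3, 2, 0, 2, 3, 1, 4, 3, 2, 5, 4, 3, 1, 6, 5, 4, 3, 7, 4, 5, 6, 1, 3, 4, 5, 2, 3, 4, 1, 3, 2, 0, 2, 3, 1, 4, 3, 2, 5, 4, 3, 1, 6, 5, 4, 7, 2, 0, 2, 3, 2, 3, 5, 4, 5, 4, 3, 4],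
  [7, 6, 5, 6, 7, 3, 1, 3, 4, 5, 6, 1, 3, 4, 5, 2, 3, 4, 1, 3, 2, 0, 2, 3, 1, 4, 3, 2, 5, 4, 3, 1, 6, 5, 4, 7, 6, 5, 2, 3, 4, 1, 3, 2, 0, 2, 3, 1, 4, 3, 2, 5, 6, 7, 5, 4, 3, 2, 3, 4, 5, 0, 4, 3, 4, 6, 5, 4, 3, 2, 3, 4, 5, 6],
  [6, 5, 4, 5, 6, 3, 2, 0, 2, 3, 4, 7, 6, 5, 4, 3, 4, 5, 6, 7, 2, 5, 4, 3, 4, 5, 6, 1, 3, 4, 5, 2, 3, 4, 1, 3, 2, 0, 2, 3, 1, 4, 3, 2, 5, 4, 3, 1, 6, 7, 5, 6, 1, 3, 4, 5, 2, 3, 4, 1, 3, 2, 0, 2, 3, 1, 4, 3, 2, 5, 4, 3, 1, 6, 5, 7]]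

/-- An element of order five. -/
def uWord : List ℕ := [0, 2, 3, 4]

/-- An element commuting with it. -/
def vWord : List ℕ := [8, 6, 8, 6, 8, 8, 7, 8, 7, 8, 8, 6, 3, 0, 8, 0, 3, 6, 8, 8, 2, 1, 0, 8, 0, 1, 2, 8]

/-- An element squaring the first. -/
def wWord : List ℕ := [0, 3, 2]

/-- The points fixed by the first. -/
def fixPts : List ℕ := [34, 60, 86, 290, 370, 437, 467, 994, 1166, 1169]

/-- Words for these points from the third or the last point. -/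
def fixWords : List (List ℕ) := [
  [8, 6],
  [7, 8, 6],
  [8, 7],
  [8, 5, 3, 1],
  [6, 8, 5, 3, 1],
  [8, 7, 0, 8, 1, 3],
  [8, 2, 1, 0],
  [8, 5, 0, 8],
  [6, 8, 5, 0, 8],
  [8, 6, 3, 0]]

/-- The starting point of each word. -/
def fixRoots : List ℕ := [1308, 1308, 1308, 1308, 1308, 0, 1308, 0, 0, 1308]

/-- Conjugators of the first to the five other subgroups. -/
def conjFive : List (List ℕ) := [
  [8, 6, 0, 8],
  [1, 8, 1, 5, 0, 2, 8, 7, 4, 3, 8, 4, 5, 1],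
  [2, 3, 1, 0, 8, 0, 1, 3, 2, 8, 7, 6, 4, 5, 4, 8, 5, 3, 1],
  [2, 3, 8, 3, 2, 8, 7, 6, 5, 4, 3, 8, 1],
  [0, 8, 0, 4, 5, 0, 8, 7, 4, 3, 8, 4, 5, 1]]

/-- The powers. -/
def powFive : List ℕ := [1, 3, 1, 1, 3]

end CfsgLib.Spor.Fi22Eight
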