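/-
The Coxeter group of type E8 on eight numbered generators: its order, the even part, and the central word.
-/
import Cfsg.Agent.Lib.Lie.Chev.CoxE8
import Cfsg.Agent.Lib.Lie.Chev.GoodE8
import Cfsg.Agent.Lib.Spor.TC.Word
import Mathlib.GroupTheory.Coxeter.Basic

set_option autoImplicit false

namespace CfsgLib.Spor.Fi22Eight

open CfsgLib.Spor.TC CfsgLib.Lie.Chev Cfsg.Lie

noncomputable section

/-- The Coxeter matrix. -/
abbrev cm : CoxeterMatrix (Fin 8) := CoxeterMatrix.E₈

/-- The group. -/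
abbrev WE : Type := cm.Group

/-- The generators, by number. -/
def sg (i : ℕ) : WE := if h : i < 8 then cm.simple ⟨i, h⟩ else 1

theorem sg_of_lt {i : ℕ} (h : i < 8) : sg i = cm.simple ⟨i, h⟩ := dif_pos h

theorem sg_sq (i : ℕ) : sg i * sg i = 1 := by
  unfold sg
  split
  · rw [← cm.toCoxeterSystem_simple]; exact cm.toCoxeterSystem.simple_mul_simple_self _
  · exact one_mul 1

theorem closure_sg : Subgroup.closure (sg '' Set.Iio 8) = ⊤ := by
  rw [eq_top_iff, ← cm.toCoxeterSystem.subgroup_closure_range_simple]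
  refine Subgroup.closure_mono ?_
  rintro _ ⟨i, rfl⟩
  exact ⟨i, i.2, by rw [sg_of_lt i.2, cm.toCoxeterSystem_simple]⟩

/-- A homomorphism from the images of the generators. -/
def homE {G : Type*} [Group G] (f : ℕ → G) (h : ∀ i j : Fin 8, (f i * f j) ^ cm i j = 1) : WE →* G :=
  cm.toCoxeterSystem.lift ⟨fun i => f i, h⟩

theorem homE_sg {G : Type*} [Group G] (f : ℕ → G) (h : ∀ i j : Fin 8, (f i * f j) ^ cm i j = 1) {i : ℕ}
    (hi : i < 8) : homE f h (sg i) = f i := by
  rw [sg_of_lt hi, ← cm.toCoxeterSystem_simple]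
  exact cm.toCoxeterSystem.lift_apply_simple (f := fun i : Fin 8 => f i) h ⟨i, hi⟩

theorem homE_ev {G : Type*} [Group G] (f : ℕ → G) (h : ∀ i j : Fin 8, (f i * f j) ^ cm i j = 1) {w : List ℕ}
    (hw : ∀ x ∈ w, x < 8) : homE f h (ev sg w) = ev f w := by
  rw [map_ev]
  exact ev_congr fun x hx => homE_sg f h (hw x hx)

theorem range_homE {G : Type*} [Group G] (f : ℕ → G) (h : ∀ i j : Fin 8, (f i * f j) ^ cm i j = 1) :
    (homE f h).range = Subgroup.closure (f '' Set.Iio 8) := by
  rw [MonoidHom.range_eq_map, ← closure_sg, MonoidHom.map_closure, Set.image_image]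
  refine congrArg Subgroup.closure (Set.image_congr fun i hi => homE_sg f h hi)

/-- The parity of a generator. -/
def odd (_ : ℕ) : Multiplicative (ZMod 2) := Multiplicative.ofAdd 1

theorem sign_rel : ∀ i j : Fin 8, (odd i * odd j) ^ cm i j = 1 := fun i j => by
  rw [odd, odd, show Multiplicative.ofAdd (1 : ZMod 2) * Multiplicative.ofAdd (1 : ZMod 2) = 1 by decide, one_pow]

/-- The parity. -/
def sign : WE →* Multiplicative (ZMod 2) := homE odd sign_rel

/-- The even part. -/
abbrev even : Subgroup WE := sign.ker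

theorem sign_sg {i : ℕ} (hi : i < 8) : sign (sg i) = Multiplicative.ofAdd 1 := homE_sg odd sign_rel hi

theorem sign_ev {w : List ℕ} (hw : ∀ x ∈ w, x < 8) : sign (ev sg w) = Multiplicative.ofAdd (w.length : ZMod 2) := by
  induction w with
  | nil => simp [ev]
  | cons a w ih =>
    rw [ev_cons, map_mul, sign_sg (hw a List.mem_cons_self), ih fun x hx => hw x (List.mem_cons_of_mem _ hx),
      ← ofAdd_add, List.length_cons, Nat.cast_add, Nat.cast_one, add_comm]

theorem ev_even {w : List ℕ} (hw : ∀ x ∈ w, x < 8) (h : w.length % 2 = 0) : ev sg w ∈ even := by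
  rw [MonoidHom.mem_ker, sign_ev hw, ← ZMod.natCast_mod, h, Nat.cast_zero, ofAdd_zero]

theorem pair_even {i j : ℕ} (hi : i < 8) (hj : j < 8) : sg i * sg j ∈ even := by
  rw [MonoidHom.mem_ker, map_mul, sign_sg hi, sign_sg hj]; decide

theorem mul_mem_even {i : ℕ} (hi : i < 8) {y : WE} : sg i * y ∈ even ↔ y ∉ even := by
  rw [MonoidHom.mem_ker, MonoidHom.mem_ker, map_mul, sign_sg hi]
  exact (show ∀ a : Multiplicative (ZMod 2), Multiplicative.ofAdd 1 * a = 1 ↔ ¬ a = 1 by decide) _

/-- The even part is generated by the pairs. -/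
theorem even_le {A : Subgroup WE} (hA : ∀ i, i < 8 → sg 0 * sg i ∈ A) : even ≤ A := by
  have main : ∀ p : WE, (p ∈ even → p ∈ A) ∧ (p ∉ even → sg 0 * p ∈ A) := by
    intro p
    have hp : p ∈ Subgroup.closure (sg '' Set.Iio 8) := by rw [closure_sg]; exact Subgroup.mem_top p
    have hstep : ∀ x ∈ sg '' Set.Iio 8, ∀ y : WE, ((y ∈ even → y ∈ A) ∧ (y ∉ even → sg 0 * y ∈ A)) →
        ((x * y ∈ even → x * y ∈ A) ∧ (x * y ∉ even → sg 0 * (x * y) ∈ A)) := by
      rintro _ ⟨i, hi, rfl⟩ y ⟨h1, h2⟩
      refine ⟨fun h => ?_, fun h => ?_⟩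
      · have e : sg i * y = (sg 0 * sg i)⁻¹ * (sg 0 * y) := by
          rw [mul_inv_rev, inv_eq_of_mul_eq_one_right (sg_sq i), inv_eq_of_mul_eq_one_right (sg_sq 0), mul_assoc,
            ← mul_assoc (sg 0), sg_sq, one_mul]
        rw [e]
        exact mul_mem (inv_mem (hA i hi)) (h2 ((mul_mem_even hi).1 h))
      · rw [← mul_assoc]
        exact mul_mem (hA i hi) (h1 (by_contra fun hy => h ((mul_mem_even hi).2 hy)))
    induction hp using Subgroup.closure_induction_left with
    | one => exact ⟨fun _ => one_mem _, fun h => absurd (one_mem _) h⟩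
    | mul_left x hx y _ ih => exact hstep x hx y ih
    | inv_mul_cancel x hx y _ ih =>
      obtain ⟨i, hi, rfl⟩ := hx
      rw [inv_eq_of_mul_eq_one_right (sg_sq i)]
      exact hstep _ ⟨i, hi, rfl⟩ y ih
  exact fun p hp => (main p).1 hp

theorem card_WE : Nat.card WE = 696729600 := by
  obtain ⟨ψ, -⟩ := exists_equivE8 goodE8
  rw [Nat.card_congr ψ.toEquiv, cardWgE8]

theorem finite_WE : Finite WE := Nat.finite_of_card_ne_zero (by rw [card_WE]; norm_num)

theorem card_even : Nat.card even = 348364800 := by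
  have hs : Function.Surjective sign := by
    intro a
    rcases (show ∀ a : Multiplicative (ZMod 2), a = 1 ∨ a = Multiplicative.ofAdd 1 by decide) a with rfl | rfl
    · exact ⟨1, map_one _⟩
    · exact ⟨sg 0, sign_sg (by norm_num)⟩
  have h := Subgroup.card_eq_card_quotient_mul_card_subgroup even
  rw [Nat.card_congr (QuotientGroup.quotientKerEquivOfSurjective sign hs).toEquiv, card_WE,
    Nat.card_eq_fintype_card (α := Multiplicative (ZMod 2)), show Fintype.card (Multiplicative (ZMod 2)) = 2 from rfl] at h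
  omega

/-- The central word: the fifteenth power of the product of the generators. -/
def zWord : List ℕ := powWord [0, 1, 2, 3, 4, 5, 6, 7] 15

theorem zWord_lt : ∀ x ∈ zWord, x < 8 := by decide +kernel

theorem z_even : ev sg zWord ∈ even := ev_even zWord_lt (by decide +kernel)

theorem z_ne : ev sg zWord ≠ 1 := by
  obtain ⟨ψ, hψ⟩ := exists_equivE8 goodE8
  have hc : ev sg [0, 1, 2, 3, 4, 5, 6, 7] = ((List.finRange 8).map cm.simple).prod := by
    rw [show ([0, 1, 2, 3, 4, 5, 6, 7] : List ℕ) = (List.finRange 8).map Fin.val from by decide, ev, List.map_map]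
    exact congrArg List.prod (List.map_congr_left fun i _ => sg_of_lt i.2)
  intro h
  rw [zWord, ev_powWord, hc] at h
  have h1 := congrArg (fun u : goodE8.Wg => (u : Equiv.Perm (Fin chevE8.nroots))) (congrArg ψ h)
  simp only [map_pow, map_one, SubgroupClass.coe_pow, Subgroup.coe_one] at h1
  rw [goodE8.coxeter_prod cm rankE8 ψ hψ] at h1
  have h2 := negPowE8 goodE8 ⟨0, by decide +kernel⟩
  rw [h1] at h2
  exact goodE8.negr_ne _ h2.symm

end

end CfsgLib.Spor.Fi22Eight
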