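/-
The Coxeter group of type E8 maps onto the isometries of the orthogonal space of plus type in dimension eight over
two elements by reflections in eight vectors; the even part maps onto the simple subgroup with kernel of order two.
-/
import Cfsg.Agent.Lib.Spor.Fi22Eight.Weyl
import Cfsg.Agent.Lib.Spor.Fi22Eight.Data
import Cfsg.Agent.Lib.Spor.TC.Action
import Cfsg.Agent.Lib.Orth.Facts
import Cfsg.Agent.Lib.Classical.QuadOrder
import Cfsg.Agent.Lib.Orth.Centre
import Cfsg.Agent.Lib.Perm.Trans.QuadStd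
import Cfsg.Agent.Lib.Perm.Trans.QuadSimple
import Cfsg.Prelude.Def_Classical

set_option autoImplicit false

namespace CfsgLib.Spor.Fi22Eight

open CfsgLib.Spor.TC CfsgLib.Perm.Trans.Quad Matrix Cfsg.Geo
open scoped commutatorElement

noncomputable section

/-- The coordinates. -/
abbrev Ix : Type := Fin 4 ⊕ Fin 4

/-- The vectors. -/
abbrev Vec : Type := Ix → ZMod 2

/-- The quadratic form. -/
abbrev qf : Vec → ZMod 2 := Cfsg.quadFormPlus 4 (ZMod 2)

/-- Packed vectors to vectors. -/
def dec (n : ℕ) : Vec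
  | .inl i => ((n / 2 ^ i.1 : ℕ) : ZMod 2)
  | .inr i => ((n / 2 ^ (4 + i.1) : ℕ) : ZMod 2)

/-- Vectors to packed vectors. -/
def enc (v : Vec) : ℕ :=
  (v (.inl 0)).val + 2 * ((v (.inl 1)).val + 2 * ((v (.inl 2)).val + 2 * ((v (.inl 3)).val +
    2 * ((v (.inr 0)).val + 2 * ((v (.inr 1)).val + 2 * ((v (.inr 2)).val + 2 * (v (.inr 3)).val))))))

theorem dec_enc : ∀ v : Vec, dec (enc v) = v := by
  have key : ∀ (n : ℕ) (a : ZMod 2), n % 2 = a.val → (n : ZMod 2) = a := fun n a h => by
    rw [← ZMod.natCast_mod, h, ZMod.natCast_zmod_val]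
  intro v
  have hlt : ∀ a : ZMod 2, a.val < 2 := fun a => ZMod.val_lt a
  have hfin : ∀ j : Fin 4, j = 0 ∨ j = 1 ∨ j = 2 ∨ j = 3 := by decide
  funext i
  rcases i with i | i
  all_goals
    refine key _ _ ?_
    have h1 := hlt (v (.inl 0))
    have h2 := hlt (v (.inl 1))
    have h3 := hlt (v (.inl 2))
    have h4 := hlt (v (.inl 3))
    have h5 := hlt (v (.inr 0))
    have h6 := hlt (v (.inr 1))
    have h7 := hlt (v (.inr 2))
    have h8 := hlt (v (.inr 3))
    rcases hfin i with rfl | rfl | rfl | rfl <;>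
    · norm_num [enc]
      omega

theorem enc_lt (v : Vec) : enc v < 256 := by
  have hlt : ∀ a : ZMod 2, a.val < 2 := fun a => ZMod.val_lt a
  have h1 := hlt (v (.inl 0))
  have h2 := hlt (v (.inl 1))
  have h3 := hlt (v (.inl 2))
  have h4 := hlt (v (.inl 3))
  have h5 := hlt (v (.inr 0))
  have h6 := hlt (v (.inr 1))
  have h7 := hlt (v (.inr 2))
  have h8 := hlt (v (.inr 3))
  simp only [enc]; omega

/-- The eight vectors. -/
def root (i : ℕ) : Vec := dec (rootCodes.getD i 17)

theorem qf_root (i : ℕ) : qf (root i) = 1 := by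
  by_cases h : i < 8
  · exact (show ∀ j < 8, qf (root j) = 1 by decide +kernel) i h
  · rw [root, List.getD_eq_default _ _ (by simpa [rootCodes] using Nat.le_of_not_lt h)]
    decide +kernel

/-- The reflection in a root, on vectors. -/
def step (i : ℕ) (x : Vec) : Vec := x - QuadraticMap.polar qf x (root i) • root i

/-- The same on packed vectors. -/
def stepC (i : ℕ) (n : ℕ) : ℕ := enc (step i (dec n))

/-- A word of steps. -/
def wordC : List ℕ → ℕ → ℕ
  | [], n => n
  | i :: w, n => stepC i (wordC w n)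

/-- A word of steps on vectors. -/
def wordV : List ℕ → Vec → Vec
  | [], x => x
  | i :: w, x => step i (wordV w x)

theorem wordV_dec : ∀ (w : List ℕ) (n : ℕ), wordV w (dec n) = dec (wordC w n)
  | [], _ => rfl
  | i :: w, n => by
    show step i (wordV w (dec n)) = dec (enc (step i (dec (wordC w n))))
    rw [dec_enc, wordV_dec w n]

/-- The packed unit vectors. -/
def units : List ℕ := [1, 2, 4, 8, 16, 32, 64, 128]

theorem qf_nd : IsNondegenerateQuadraticForm qf := quadFormPlus_nd

theorem root_ne (i : ℕ) : qf (root i) ≠ 0 := by rw [qf_root]; decide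

/-- The isometries. -/
abbrev Iso8 := Cfsg.isometryGroup (ZMod 2) qf

/-- The simple subgroup. -/
abbrev Om : Subgroup Iso8 := Cfsg.Omega (ZMod 2) qf

/-- The matrix of an element. -/
abbrev mat (g : Iso8) : Matrix Ix Ix (ZMod 2) := g.1.1

/-- The reflection in a root, as a matrix. -/
def refl (i : ℕ) : GL Ix (ZMod 2) := (exists_refl qf_nd (root_ne i)).choose

theorem refl_spec (i : ℕ) : refl i ∈ Cfsg.isometryGroup (ZMod 2) qf ∧ IsRefl qf (root i) (refl i) :=
  (exists_refl qf_nd (root_ne i)).choose_spec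

/-- The reflections. -/
def gen (i : ℕ) : Iso8 := if i < 8 then ⟨refl i, (refl_spec i).1⟩ else 1

theorem gen_mulVec {i : ℕ} (hi : i < 8) (x : Vec) : mat (gen i) *ᵥ x = step i x := by
  rw [gen, if_pos hi]
  show (refl i : Matrix Ix Ix (ZMod 2)) *ᵥ x = _
  rw [(refl_spec i).2 x, qf_root, step, inv_one, one_mul]

theorem ev_gen_mulVec : ∀ {w : List ℕ}, (∀ i ∈ w, i < 8) → ∀ x : Vec, mat (ev gen w) *ᵥ x = wordV w x
  | [], _, x => one_mulVec x
  | i :: w, h, x => by
    show (mat (gen i) * mat (ev gen w)) *ᵥ x = step i (wordV w x)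
    rw [← mulVec_mulVec, ev_gen_mulVec (fun j hj => h j (List.mem_cons_of_mem _ hj)) x,
      gen_mulVec (h i List.mem_cons_self)]

theorem units_single : ∀ j : Ix, ∃ n ∈ units, dec n = Pi.single j 1 := by decide +kernel

theorem eq_of_units {g h : Iso8} (H : ∀ n ∈ units, mat g *ᵥ dec n = mat h *ᵥ dec n) : g = h := by
  refine Subtype.ext (Units.ext (Matrix.ext_of_mulVec_single fun j => ?_))
  obtain ⟨n, hn, e⟩ := units_single j
  rw [← e]
  exact H n hn

/-- A word fixing the unit vectors is trivial. -/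
theorem ev_gen_one {w : List ℕ} (hw : ∀ i ∈ w, i < 8)
    (h : units.all (fun n => Nat.beq (wordC w n) n) = true) : ev gen w = 1 := by
  refine eq_of_units fun n hn => ?_
  rw [ev_gen_mulVec hw, wordV_dec, Nat.eq_of_beq_eq_true (List.all_eq_true.1 h n hn)]
  exact (one_mulVec _).symm

theorem rels_fix : ∀ i j : Fin 8, units.all (fun n =>
    Nat.beq (wordC (powWord [i.1, j.1] (cm i j)) n) n) = true := by decide +kernel

theorem gen_rel (i j : Fin 8) : (gen i * gen j) ^ cm i j = 1 := by
  have h := ev_gen_one (w := powWord [i.1, j.1] (cm i j)) (fun x hx => by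
    have : x ∈ [i.1, j.1] := by
      generalize cm i j = m at hx
      induction m with
      | zero => simp [powWord] at hx
      | succ m ih => exact (List.mem_append.1 hx).elim id ih
    rcases List.mem_cons.1 this with rfl | h
    · exact i.2
    · rw [List.mem_singleton] at h; subst h; exact j.2) (rels_fix i j)
  rw [ev_powWord] at h
  simpa [ev] using h

/-- The map to the isometries. -/
def psi : WE →* Iso8 := homE gen gen_rel

theorem psi_sg {i : ℕ} (hi : i < 8) : psi (sg i) = gen i := homE_sg gen gen_rel hi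

theorem gen_sq (i : ℕ) : gen i * gen i = 1 := by
  by_cases hi : i < 8
  · rw [← psi_sg hi, ← map_mul, sg_sq, map_one]
  · rw [gen, if_neg hi, one_mul]

theorem psi_z : psi (ev sg zWord) = 1 := by
  rw [psi, homE_ev gen gen_rel zWord_lt]
  exact ev_gen_one zWord_lt (by decide +kernel)

/-- The letter towards the first root. -/
def tLet (n : ℕ) : ℕ := Nat.land (vecTree.get 8 n) 7

/-- The distance to the first root. -/
def tRank (n : ℕ) : ℕ := Nat.shiftRight (vecTree.get 8 n) 3

/-- The tree is right at a packed vector. -/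
def treeOK (n : ℕ) : Bool :=
  Bool.rec true
    (Nat.beq n 17 || (Nat.blt (tLet n) 8 && Nat.blt (tRank (stepC (tLet n) n)) (tRank n)))
    (Nat.beq (qf (dec n)).val 1)

theorem tree_all : allFrom treeOK 0 256 = true := by decide +kernel

theorem tree_spec {v : Vec} (hv : qf v = 1) : v = root 0 ∨
    (tLet (enc v) < 8 ∧ tRank (enc (step (tLet (enc v)) v)) < tRank (enc v)) := by
  have h : treeOK (enc v) = true := allFrom_spec tree_all _ (Nat.zero_le _) (by simpa using enc_lt v)
  rw [treeOK, dec_enc, hv, show Nat.beq (1 : ZMod 2).val 1 = true from rfl] at h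
  simp only [Bool.or_eq_true, Bool.and_eq_true] at h
  rcases h with h | ⟨h1, h2⟩
  · left
    rw [← dec_enc v, Nat.eq_of_beq_eq_true h]
    rfl
  · refine Or.inr ⟨Nat.le_of_ble_eq_true h1, ?_⟩
    have := Nat.le_of_ble_eq_true h2
    rwa [stepC, dec_enc] at this

/-- The root is sent to every nonsingular vector. -/
theorem exists_move {v : Vec} (hv : qf v = 1) :
    ∃ g ∈ Subgroup.closure (gen '' Set.Iio 8), mat g *ᵥ root 0 = v := by
  induction hn : tRank (enc v) using Nat.strong_induction_on generalizing v with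
  | _ n ih =>
    rcases tree_spec hv with rfl | ⟨hl, hr⟩
    · exact ⟨1, one_mem _, one_mulVec _⟩
    set l := tLet (enc v)
    have hq : qf (step l v) = 1 := by
      rw [← gen_mulVec hl, CfsgLib.Perm.Trans.Quad.mem_iso.1 (gen l).2 v, hv]
    obtain ⟨g, hg, e⟩ := ih _ (hn ▸ hr) hq rfl
    refine ⟨gen l * g, mul_mem (Subgroup.subset_closure ⟨l, hl, rfl⟩) hg, ?_⟩
    rw [show mat (gen l * g) = mat (gen l) * mat g from rfl, ← mulVec_mulVec, e, ← gen_mulVec hl, mulVec_mulVec,
      show mat (gen l) * mat (gen l) = mat (gen l * gen l) from rfl, gen_sq, show mat (1 : Iso8) = 1 from rfl,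
      one_mulVec]

theorem range_normal : psi.range.Normal := by
  rw [psi, range_homE]
  set R := Subgroup.closure (gen '' Set.Iio 8)
  have key : ∀ (k : Iso8) (i : ℕ), i < 8 → k * gen i * k⁻¹ ∈ R := by
    intro k i hi
    have hq : qf (mat k *ᵥ root i) = 1 := (CfsgLib.Perm.Trans.Quad.mem_iso.1 k.2 _).trans (qf_root i)
    obtain ⟨g, hg, e⟩ := exists_move hq
    have h1 : IsRefl qf (mat k *ᵥ root i) ((k.1 : GL Ix (ZMod 2)) * refl i * (k.1)⁻¹) := (refl_spec i).2.conj k.2
    have h2 : IsRefl qf (mat g *ᵥ root 0) ((g.1 : GL Ix (ZMod 2)) * refl 0 * (g.1)⁻¹) := (refl_spec 0).2.conj g.2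
    rw [e] at h2
    have h4 : k * gen i * k⁻¹ = g * gen 0 * g⁻¹ := by
      rw [gen, gen, if_pos hi, if_pos (by norm_num : 0 < 8)]
      exact Subtype.ext (h1.unique h2)
    rw [h4]
    exact mul_mem (mul_mem hg (Subgroup.subset_closure ⟨0, by norm_num, rfl⟩)) (inv_mem hg)
  refine ⟨fun h hh k => ?_⟩
  induction hh using Subgroup.closure_induction with
  | mem x hx => obtain ⟨i, hi, rfl⟩ := hx; exact key k i hi
  | one => rw [mul_one, mul_inv_cancel]; exact one_mem _
  | mul x y _ _ ix iy => rw [show k * (x * y) * k⁻¹ = k * x * k⁻¹ * (k * y * k⁻¹) by group]; exact mul_mem ix iy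
  | inv x _ ix => rw [show k * x⁻¹ * k⁻¹ = (k * x * k⁻¹)⁻¹ by group]; exact inv_mem ix

theorem five_le : 5 ≤ Fintype.card Ix := by simp

theorem center_om : Subgroup.center Om = ⊥ := Subgroup.card_eq_one.1
  (CfsgLib.Orth.card_center_omega_two qf_nd five_le (by decide))

/-- The simple subgroup is its projective version. -/
def omEquiv : Om ≃* Cfsg.POmega (ZMod 2) qf :=
  MulEquiv.ofBijective (QuotientGroup.mk' (Subgroup.center Om))
    ⟨by rw [← MonoidHom.ker_eq_bot_iff, QuotientGroup.ker_mk', center_om], QuotientGroup.mk'_surjective _⟩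

theorem om_simple : IsSimpleGroup Om := by
  haveI : IsSimpleGroup (Cfsg.POmega (ZMod 2) qf) := pomega_isSimple qf_nd five_le
  exact omEquiv.isSimpleGroup

theorem card_om : Nat.card Om = 174182400 := by
  have h := CfsgLib.Orth.card_pomega_mul qf_nd (by simp) (Or.inr (by simp))
  rw [← Nat.card_congr omEquiv.toEquiv, CfsgLib.Orth.card_center_omega_two qf_nd five_le (by decide),
    CfsgLib.Orth.card_sqClass_two (by decide),
    show Nat.card Iso8 = _ from CfsgLib.Classical.card_iso_plus (F := ZMod 2) 3,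
    show Fintype.card (ZMod 2) = 2 from ZMod.card 2] at h
  norm_num [Finset.prod_range_succ] at h ⊢
  linarith

theorem om_le_range : Om ≤ psi.range := by
  haveI := om_simple
  haveI := range_normal
  rcases (inferInstance : (psi.range.subgroupOf Om).Normal).eq_bot_or_eq_top with h | h
  · exfalso
    have hO : ⁅gen 0, gen 2⁆ ∈ Om := by
      show ⁅gen 0, gen 2⁆ ∈ commutator Iso8
      rw [commutator_def]
      exact Subgroup.commutator_mem_commutator (Subgroup.mem_top _) (Subgroup.mem_top _)
    have hR : ⁅gen 0, gen 2⁆ ∈ psi.range :=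
      ⟨⁅sg 0, sg 2⁆, by rw [map_commutatorElement, psi_sg (by norm_num), psi_sg (by norm_num)]⟩
    have h1 : (⟨_, hO⟩ : Om) ∈ psi.range.subgroupOf Om := hR
    rw [h, Subgroup.mem_bot] at h1
    have h2 : ev gen [0, 2, 0, 2] = 1 := by
      have h3 : ⁅gen 0, gen 2⁆ = 1 := congrArg Subtype.val h1
      rw [commutatorElement_def, inv_eq_of_mul_eq_one_right (gen_sq 0), inv_eq_of_mul_eq_one_right (gen_sq 2)] at h3
      simpa [ev, mul_assoc] using h3
    have hb : ∃ n ∈ units, wordC [0, 2, 0, 2] n ≠ n ∧ enc (dec n) = n := by decide +kernel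
    obtain ⟨n, -, hn, hn'⟩ := hb
    have h4 := ev_gen_mulVec (w := [0, 2, 0, 2]) (by simp) (dec n)
    rw [h2, show mat (1 : Iso8) = 1 from rfl, one_mulVec, wordV_dec] at h4
    have h5 := congrArg enc h4
    rw [hn', show enc (dec (wordC [0, 2, 0, 2] n)) = wordC [0, 2, 0, 2] n from by
      show enc (dec (enc _)) = enc _
      rw [dec_enc]] at h5
    exact hn h5.symm
  · exact Subgroup.subgroupOf_eq_top.1 h

theorem om_le_even : Om ≤ even.map psi := by
  haveI := om_simple
  have hperf : commutator Om = ⊤ := by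
    refine (IsSimpleGroup.eq_bot_or_eq_top_of_normal _ inferInstance).resolve_left fun h => ?_
    have hc : Subgroup.center Om = ⊤ := eq_top_iff.2 fun a _ => Subgroup.mem_center_iff.2 fun b => by
      rw [← commutatorElement_eq_one_iff_mul_comm, ← Subgroup.mem_bot, ← h]
      exact Subgroup.commutator_mem_commutator (Subgroup.mem_top b) (Subgroup.mem_top a)
    rw [center_om] at hc
    exact bot_ne_top hc
  calc Om = (commutator Om).map Om.subtype := by rw [hperf, ← MonoidHom.range_eq_map, Subgroup.range_subtype]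
    _ = ⁅Om, Om⁆ := Subgroup.map_subtype_commutator Om
    _ ≤ ⁅psi.range, psi.range⁆ := Subgroup.commutator_mono om_le_range om_le_range
    _ = (commutator WE).map psi := by rw [commutator_def, Subgroup.map_commutator, MonoidHom.range_eq_map]
    _ ≤ even.map psi := Subgroup.map_mono (Abelianization.commutator_subset_ker sign)

attribute [local irreducible] zWord psi

theorem card_psi_even :
    even.map psi = Om ∧ ∀ e ∈ even, psi e = 1 → e = 1 ∨ e = ev sg zWord := by
  haveI := finite_WE
  set f : even →* Iso8 := psi.comp even.subtype with hf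
  have hr : f.range = even.map psi := by rw [hf, MonoidHom.range_comp, Subgroup.range_subtype]
  have hk : Nat.card f.ker * Nat.card f.range = 348364800 := by
    rw [← card_even, ← Subgroup.index_ker, Subgroup.card_mul_index]
  have hz : (⟨ev sg zWord, z_even⟩ : even) ∈ f.ker := by
    rw [MonoidHom.mem_ker, hf, MonoidHom.comp_apply, Subgroup.subtype_apply]
    exact psi_z
  have hz1 : (⟨_, z_even⟩ : even) ≠ 1 := fun h => z_ne (congrArg Subtype.val h)
  have h2 : 2 ≤ Nat.card f.ker := by
    haveI : Nontrivial f.ker := ⟨⟨⟨_, hz⟩, 1, fun h => hz1 (congrArg Subtype.val h)⟩⟩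
    exact Finite.one_lt_card
  have h3 : 174182400 ≤ Nat.card (even.map psi : Subgroup Iso8) := card_om ▸ Subgroup.card_le_of_le om_le_even
  rw [hr] at hk
  have hcard : Nat.card (even.map psi : Subgroup Iso8) = 174182400 ∧ Nat.card f.ker = 2 := by
    constructor <;> nlinarith
  refine ⟨(Subgroup.eq_of_le_of_card_ge om_le_even (by rw [card_om, hcard.1])).symm, fun e he h => ?_⟩
  by_contra hne
  rw [not_or] at hne
  have h4 : ({1, ⟨ev sg zWord, z_even⟩, ⟨e, he⟩} : Set even).ncard = 3 :=
    Set.ncard_eq_three.2 ⟨_, _, _, fun r => hz1 r.symm, fun r => hne.1 (congrArg Subtype.val r).symm,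
      fun r => hne.2 (congrArg Subtype.val r).symm, rfl⟩
  have hsub : ({1, ⟨ev sg zWord, z_even⟩, ⟨e, he⟩} : Set even) ⊆ (f.ker : Set even) := by
    rintro x (rfl | rfl | rfl)
    exacts [one_mem _, hz, h]
  have := Set.ncard_le_ncard hsub (Set.toFinite _)
  rw [h4, ← Nat.card_coe_set_eq, SetLike.coe_sort_coe, hcard.2] at this
  omega

end

end CfsgLib.Spor.Fi22Eight
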